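import Mathlib
set_option linter.all false

/-!
# Orders of elements of `SL(2, q)` and `PSL(2, q)`; fixed vectors
-/

set_option autoImplicit false

namespace Cfsg.Agent.H426

open Matrix

section

variable {F : Type*} [Field F]

theorem mat2_add_adjugate (A : Matrix (Fin 2) (Fin 2) F) :
    A + A.adjugate = algebraMap F (Matrix (Fin 2) (Fin 2) F) (A 0 0 + A 1 1) := by
  rw [adjugate_fin_two]
  ext i j
  fin_cases i <;> fin_cases j <;> simp [Matrix.algebraMap_matrix_apply, add_comm]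

/-- if `A` has determinant 1 and `A - 1` is singular then `(A - 1) ^ 2 = 0` -/
theorem mat2_sq_zero (A : Matrix (Fin 2) (Fin 2) F) (hd : A.det = 1)
    (h : (A - 1).det = 0) : (A - 1) ^ 2 = 0 := by
  rw [det_fin_two] at hd h
  simp only [Matrix.sub_apply, one_apply_eq, ne_eq, Fin.isValue, zero_ne_one, not_false_eq_true,
    one_apply_ne, sub_zero, one_ne_zero] at h
  rw [pow_two]
  have ht : A 0 0 + A 1 1 = 2 := by linear_combination hd - h
  have h1 : A 1 1 = 2 - A 0 0 := by linear_combination ht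
  ext i j
  fin_cases i <;> fin_cases j <;>
    simp [Matrix.mul_apply, Fin.sum_univ_two]
  · linear_combination (A 0 0) * ht - hd
  · linear_combination (A 0 1) * ht
  · linear_combination (A 1 0) * ht
  · linear_combination (A 1 1) * ht - hd

/-- if `A` has determinant 1 and `A - 1` is singular then `A ^ p = 1` in characteristic `p` -/
theorem mat2_pow_char (p : ℕ) [Fact p.Prime] [CharP F p] (A : Matrix (Fin 2) (Fin 2) F)
    (hd : A.det = 1) (h : (A - 1).det = 0) : A ^ p = 1 := by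
  have h1 := mat2_sq_zero A hd h
  have hp := (Fact.out : p.Prime).two_le
  have h2 : (A - 1) ^ p = 0 := by
    obtain ⟨k, hk⟩ := Nat.exists_eq_add_of_le hp
    rw [hk, pow_add, h1, zero_mul]
  have h3 : (A - 1) ^ p = A ^ p - 1 := by
    rw [sub_pow_char_of_commute p (Commute.one_right A), one_pow]
  rw [h3] at h2
  exact sub_eq_zero.1 h2

theorem mat2_det_eq_zero_of_fixed (A : Matrix (Fin 2) (Fin 2) F) (v : Fin 2 → F) (hv : v ≠ 0)
    (h : A.mulVec v = v) : (A - 1).det = 0 := by
  apply Matrix.exists_mulVec_eq_zero_iff.1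
  refine ⟨v, hv, ?_⟩
  rw [Matrix.sub_mulVec, h, Matrix.one_mulVec, sub_self]

theorem isUnit_of_det_ne_zero (A : Matrix (Fin 2) (Fin 2) F) (h : A.det ≠ 0) : IsUnit A :=
  (Matrix.isUnit_iff_isUnit_det A).2 (isUnit_iff_ne_zero.2 h)

/-- **Orders of elements in `SL(2, q)`.** -/
theorem mat2_pow_cases (p : ℕ) [Fact p.Prime] [CharP F p] [Fintype F]
    (A : Matrix (Fin 2) (Fin 2) F) (hd : A.det = 1) :
    A ^ (Fintype.card F - 1) = 1 ∨ A ^ (Fintype.card F + 1) = 1 ∨ A ^ (2 * p) = 1 := by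
  set q := Fintype.card F with hq
  obtain ⟨n, hn⟩ : ∃ n : ℕ, q = p ^ n := by
    obtain ⟨n, _, hn⟩ := FiniteField.card F p
    exact ⟨n, hn⟩
  have hq1 : 1 ≤ q := Fintype.card_pos
  set B : Matrix (Fin 2) (Fin 2) F := A.adjugate with hB
  have hAB : A * B = 1 := by rw [hB, mul_adjugate, hd, one_smul]
  have hBA : B * A = 1 := by rw [hB, adjugate_mul, hd, one_smul]
  have hc : Commute A B := by rw [Commute, SemiconjBy, hAB, hBA]
  have h1 : A ^ q + B ^ q = A + B := by
    have h2 : (A + B) ^ q = A ^ q + B ^ q := by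
      rw [hn]
      exact add_pow_char_pow_of_commute p n hc
    rw [← h2, mat2_add_adjugate A, ← map_pow, FiniteField.pow_card]
  have hABn : ∀ n : ℕ, A ^ n * B ^ n = 1 := fun n => by
    rw [← hc.mul_pow, hAB, one_pow]
  have h3 : (A ^ (q + 1) - 1) * (A ^ (q - 1) - 1) = 0 := by
    have h4 : A ^ q * (A ^ q + B ^ q) = A ^ q * (A + B) := by rw [h1]
    rw [mul_add, mul_add, hABn, ← pow_add, ← pow_succ] at h4
    have h5 : A ^ q * B = A ^ (q - 1) := by
      obtain ⟨m, hm⟩ := Nat.exists_eq_add_of_le' hq1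
      rw [hm, pow_succ, mul_assoc, hAB, mul_one, Nat.add_sub_cancel]
    rw [h5] at h4
    have h6 : (A ^ (q + 1) - 1) * (A ^ (q - 1) - 1)
        = A ^ (q + q) + 1 - (A ^ (q + 1) + A ^ (q - 1)) := by
      have h7 : A ^ (q + 1) * A ^ (q - 1) = A ^ (q + q) := by
        rw [← pow_add]
        congr 1
        omega
      rw [sub_mul, mul_sub, mul_one, one_mul, h7]
      abel
    rw [h6, h4, sub_self]
  by_cases d2 : (A ^ (q + 1) - 1).det = 0
  · by_cases d1 : (A ^ (q - 1) - 1).det = 0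
    · right; right
      have e1 : (A ^ (q - 1)) ^ p = 1 := mat2_pow_char p _ (by rw [det_pow, hd, one_pow]) d1
      have e2 : (A ^ (q + 1)) ^ p = 1 := mat2_pow_char p _ (by rw [det_pow, hd, one_pow]) d2
      have e3 : A ^ (2 * p) * (A ^ (q - 1)) ^ p = (A ^ (q + 1)) ^ p := by
        rw [← pow_mul, ← pow_mul, ← pow_add]
        congr 1
        rw [← add_mul]
        congr 1
        omega
      rw [e1, e2, mul_one] at e3
      exact e3
    · right; left
      have hu := isUnit_of_det_ne_zero _ d1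
      have h4 := (IsUnit.mul_left_eq_zero hu).1 h3
      exact sub_eq_zero.1 h4
  · left
    have hu := isUnit_of_det_ne_zero _ d2
    have h4 := (IsUnit.mul_right_eq_zero hu).1 h3
    exact sub_eq_zero.1 h4

/-! ### Transfer to `SL(2, F)` -/

theorem sl2_ext' {M N : Matrix.SpecialLinearGroup (Fin 2) F}
    (h : (M : Matrix (Fin 2) (Fin 2) F) = (N : Matrix (Fin 2) (Fin 2) F)) : M = N :=
  Subtype.ext h

theorem sl2_pow_eq_one {M : Matrix.SpecialLinearGroup (Fin 2) F} {n : ℕ}
    (h : (M : Matrix (Fin 2) (Fin 2) F) ^ n = 1) : M ^ n = 1 := by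
  apply sl2_ext'
  rw [Matrix.SpecialLinearGroup.coe_pow, Matrix.SpecialLinearGroup.coe_one, h]

/-- **Orders of elements in `SL(2, q)`.** -/
theorem sl2_pow_cases (p : ℕ) [Fact p.Prime] [CharP F p] [Fintype F]
    (M : Matrix.SpecialLinearGroup (Fin 2) F) :
    M ^ (Fintype.card F - 1) = 1 ∨ M ^ (Fintype.card F + 1) = 1 ∨ M ^ (2 * p) = 1 := by
  rcases mat2_pow_cases p (M : Matrix (Fin 2) (Fin 2) F) M.det_coe with h | h | h
  · exact Or.inl (sl2_pow_eq_one h)
  · exact Or.inr (Or.inl (sl2_pow_eq_one h))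
  · exact Or.inr (Or.inr (sl2_pow_eq_one h))

/-- a nonzero vector fixed by `M` forces `M ^ p = 1` in characteristic `p` -/
theorem sl2_pow_char_of_fixed (p : ℕ) [Fact p.Prime] [CharP F p]
    (M : Matrix.SpecialLinearGroup (Fin 2) F) (v : Fin 2 → F) (hv : v ≠ 0)
    (h : (M : Matrix (Fin 2) (Fin 2) F).mulVec v = v) : M ^ p = 1 :=
  sl2_pow_eq_one (mat2_pow_char p _ M.det_coe (mat2_det_eq_zero_of_fixed _ v hv h))

/-- in odd characteristic an element of `SL(2, F)` of square 1 is `± 1`, hence central -/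
theorem sl2_sq_eq_one_mem_center (h2 : (2 : F) ≠ 0) (M : Matrix.SpecialLinearGroup (Fin 2) F)
    (h : M ^ 2 = 1) : M ∈ Subgroup.center (Matrix.SpecialLinearGroup (Fin 2) F) := by
  have h1 : M⁻¹ = M := by
    rw [pow_two] at h
    exact inv_eq_of_mul_eq_one_left h
  have h3 : (M : Matrix (Fin 2) (Fin 2) F).adjugate = M := by
    rw [← Matrix.SpecialLinearGroup.coe_inv, h1]
  have h4 := mat2_add_adjugate (M : Matrix (Fin 2) (Fin 2) F)
  rw [h3] at h4
  set c := (M : Matrix (Fin 2) (Fin 2) F) 0 0 + (M : Matrix (Fin 2) (Fin 2) F) 1 1 with hc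
  have h5 : (M : Matrix (Fin 2) (Fin 2) F) = scalar (Fin 2) (c / 2) := by
    have h6 : (2 : F) • (M : Matrix (Fin 2) (Fin 2) F) = (2 : F) • scalar (Fin 2) (c / 2) := by
      rw [two_smul, h4]
      ext i j
      fin_cases i <;> fin_cases j <;>
        simp [Matrix.algebraMap_matrix_apply, mul_div_cancel₀, h2]
    exact smul_right_injective _ h2 h6
  rw [Matrix.SpecialLinearGroup.mem_center_iff]
  refine ⟨c / 2, ?_, h5.symm⟩
  have h7 := M.det_coe
  rw [h5] at h7
  rw [Matrix.scalar_apply, Matrix.det_diagonal, Finset.prod_const, Finset.card_univ] at h7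
  exact h7

end

end Cfsg.Agent.H426
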